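import Groth.Agent.AdeqLib.TExact
import Groth.Agent.BGaNotS.GaPts
import Groth.Prelude.Def_CGrpSh2

/-!
The additive group has exact Amitsur complexes on the big fppf site; its higher cohomology on affine schemes vanishes.
-/

set_option autoImplicit false
set_option backward.isDefEq.respectTransparency false
set_option backward.isDefEq.respectTransparency.types false
set_option linter.style.haveILetI false

universe u

open CategoryTheory CategoryTheory.Limits AlgebraicGeometry Opposite TensorProduct
open MonoidalCategory CartesianMonoidalCategory MonObj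
open Groth.Agent.AdeqLib
open Adeq (Alg algOf specOver)

noncomputable section

namespace Groth.Agent.GaCoh

variable {S : Scheme.{u}} {R : CommRingCat.{u}} (a : Spec R ⟶ S)

/-- The sheaf of points of the additive group. -/
abbrev GaSh (S : Scheme.{u}) : BigSite.Ab Scheme.fppfPrecoverage S :=
  CGrpSh.pts Scheme.fppfPrecoverage (Red.Ga S)

/-- Elements as functions. -/
abbrev fnD (D : Alg R) : (D : Type u) →+* Γ((sp a D).left, ⊤) :=
  (Scheme.ΓSpecIso (CommRingCat.of (D : Type u))).inv.hom

/-- Elements of an algebra as points of the additive group. -/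
def ptEquiv (D : Alg R) : (D : Type u) ≃+ (algF a (GaSh S).obj).obj D :=
  AddEquiv.ofBijective
    (AddMonoidHom.mk' (fun d => (ULift.up (Additive.ofMul (BGaNotS.gaPt (W := sp a D) (fnD a D d))) :
        ULift.{u + 1} (Additive (sp a D ⟶ Red.Ga S))))
      (fun d e => ULift.ext _ _ (congrArg Additive.ofMul (BGaNotS.gaPt_ext (by
        rw [BGaNotS.gaFn_gaPt, map_add]
        exact ((BGaNotS.gaFn_mul (BGaNotS.gaPt (W := sp a D) (fnD a D d)) (BGaNotS.gaPt (fnD a D e))).trans
          (congrArg₂ (· + ·) (BGaNotS.gaFn_gaPt _) (BGaNotS.gaFn_gaPt _))).symm)))))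
    ⟨fun d e h => by
      have h1 := congrArg (fun x : ULift.{u + 1} (Additive (sp a D ⟶ Red.Ga S)) => Red.gaFn x.down.toMul) h
      change Red.gaFn (BGaNotS.gaPt (W := sp a D) (fnD a D d)) = Red.gaFn (BGaNotS.gaPt (W := sp a D) (fnD a D e)) at h1
      rw [BGaNotS.gaFn_gaPt, BGaNotS.gaFn_gaPt] at h1
      exact (ConcreteCategory.bijective_of_isIso (Scheme.ΓSpecIso (CommRingCat.of (D : Type u))).inv).1 h1,
    fun x => by
      change ULift.{u + 1} (Additive (sp a D ⟶ Red.Ga S)) at x
      obtain ⟨d, hd⟩ := (ConcreteCategory.bijective_of_isIso (Scheme.ΓSpecIso (CommRingCat.of (D : Type u))).inv).2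
        (Red.gaFn x.down.toMul)
      refine ⟨d, ULift.ext _ _ (congrArg Additive.ofMul (BGaNotS.gaPt_ext ?_))⟩
      rw [BGaNotS.gaFn_gaPt]
      exact hd⟩

theorem ptEquiv_natural {D D' : Alg R} (f : D ⟶ D') (d : (D : Type u)) :
    (algF a (GaSh S).obj).map f (ptEquiv a D d) = ptEquiv a D' (f.hom d) := by
  refine ULift.ext _ _ (congrArg Additive.ofMul ?_)
  show spm a f ≫ BGaNotS.gaPt (W := sp a D) (fnD a D d) = BGaNotS.gaPt (W := sp a D') (fnD a D' (f.hom d))
  refine BGaNotS.gaPt_ext ?_
  rw [BGaNotS.gaFn_comp, BGaNotS.gaFn_gaPt, BGaNotS.gaFn_gaPt]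
  exact (ConcreteCategory.congr_hom (Scheme.ΓSpecIso_inv_naturality (CommRingCat.ofHom f.hom.toRingHom)) d).symm

theorem texact_Ga : TExact (GaSh S) := by
  intro R a B _ _ _ m z hz
  let M : Type u := R
  let lin : ∀ D : Alg R, (D : Type u) ⊗[R] M ≃+ (algF a (GaSh S).obj).obj D := fun D =>
    (TensorProduct.rid R (D : Type u)).toAddEquiv.trans (ptEquiv a D)
  have lin_natural : ∀ {D D' : Alg R} (f : D ⟶ D') (x : (D : Type u) ⊗[R] M),
      (algF a (GaSh S).obj).map f (lin D x) = lin D' (f.hom.toLinearMap.rTensor M x) := by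
    intro D D' f x
    refine (ptEquiv_natural a f _).trans (congrArg (ptEquiv a D') ?_)
    change f.hom (TensorProduct.rid R (D : Type u) x) =
      TensorProduct.rid R (D' : Type u) (f.hom.toLinearMap.rTensor M x)
    induction x using TensorProduct.induction_on with
    | zero => simp
    | add p q hp hq => simp only [map_add, hp, hq]
    | tmul d c => simp [M]
  have hd : ∀ (j : ℕ) (x : (tpow (R := R) B j : Type u) ⊗[R] M),
      dA B (algF a (GaSh S).obj) j (lin _ x) = lin _ (tDM B M j x) := fun j x => by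
    rw [dA_apply]
    refine Eq.trans ?_ (congrArg (lin _) (sum_rTensor (fun k => face (R := R) B j k) M x)).symm
    rw [map_sum]
    exact Finset.sum_congr rfl fun k _ => by rw [map_zsmul, lin_natural]
  obtain ⟨x, rfl⟩ := (lin _).surjective z
  rw [hd] at hz
  obtain ⟨y, hy⟩ := (tDM_exact M (m + 1) x).mp
    ((lin (tpow (R := R) B (m + 2 + 1))).injective (hz.trans (map_zero _).symm))
  exact ⟨lin _ y, (hd _ y).trans (congrArg _ hy)⟩

/-- Higher cohomology of the additive group on an affine scheme vanishes. -/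
theorem subsingleton_H_Ga [IsAffine S] (i : ℕ) (hi : 0 < i) :
    Subsingleton (BigSite.H Scheme.fppfPrecoverage S (GaSh S) i) := by
  obtain ⟨p, rfl⟩ : ∃ p, i = p + 1 := ⟨i - 1, by omega⟩
  exact subsingleton_H_of_texact texact_Ga p

end Groth.Agent.GaCoh
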